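import Cfsg.Agent.Lib.Helper41.TW3

/-!
Job 109 (helper41, S5752 piece TW-S3R): `O_r(X) ≤ O_r(Y)` for `r ≠ p`.
-/

set_option autoImplicit false

namespace Cfsg.Agent.Lib.Helper73.TWP

open Cfsg Cfsg.Agent.Lib.Helper66 Cfsg.Agent.Lib.Helper41.TW

variable {G : Type*} [Group G] [Finite G] {X Y A1 B1 A2 B2 : Subgroup G}

theorem step3_rp_le (S : Setting X Y A1 B1 A2 B2) {p r : ℕ} (hp : p.Prime) (hr : r.Prime)
    (hrp : r ≠ p) (hA : rp p A2 ≠ ⊥) (hB : rp p B2 ≠ ⊥) : rp r X ≤ rp r Y := by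
  -- (i) R centralizes O_p(X)
  have hRX : rp r X ≤ X := rp_le r X
  have hXR : X ≤ Subgroup.normalizer ((rp r X : Subgroup G) : Set G) := le_normalizer_rp r X
  have h1 : rp r X ≤ Subgroup.centralizer ((rp p X : Subgroup G) : Set G) :=
    le_centralizer_of_disjoint (hRX.trans (le_normalizer_rp p X))
      ((rp_le p X).trans hXR) (inf_eq_bot_of_pq hr hp hrp (rp_isPGroup r X) (rp_isPGroup p X))
  -- (ii) R ≤ Y
  have h2 : rp r X ≤ Y :=
    (h1.trans (Subgroup.centralizer_le (SetLike.coe_subset_coe.mpr (S.rp_B2_le_rp_X p)))).trans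
      (S.centralizer_rp_B2_le p hB)
  -- (iii) R ≤ A1
  have h3 : rp r X ≤ A1 := S.le_A1 hRX h2 hXR
  -- (iv) the centralizer of O_p(B1) lies in B1
  have hPBne : rp p B1 ≠ ⊥ := by
    intro h
    apply hA
    have := S.rp_A2_le_rp_B1 p
    rw [h] at this
    exact le_bot_iff.mp this
  have hPBY : rp p B1 ≤ Y := (rp_le p B1).trans S.B1_le_Y
  have hCBY : Subgroup.centralizer ((rp p B1 : Subgroup G) : Set G) ≤ Y :=
    S.centralizer_le_Y hPBY (S.Y_norm_rp_B1 p) hPBne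
  have hCBX : Subgroup.centralizer ((rp p B1 : Subgroup G) : Set G) ≤ X :=
    (Subgroup.centralizer_le (SetLike.coe_subset_coe.mpr (S.rp_A2_le_rp_B1 p))).trans
      (S.centralizer_rp_A2_le p hA)
  have hYCB : Y ≤ Subgroup.normalizer
      ((Subgroup.centralizer ((rp p B1 : Subgroup G) : Set G) : Subgroup G) : Set G) :=
    (S.Y_norm_rp_B1 p).trans (normalizer_le_normalizer_centralizer _)
  have hCB1 : Subgroup.centralizer ((rp p B1 : Subgroup G) : Set G) ≤ B1 :=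
    S.le_B1 hCBY hCBX hYCB
  -- (v) R ≤ centralizer of O_p(B1)
  have h5 : rp r X ≤ Subgroup.centralizer ((rp p B1 : Subgroup G) : Set G) :=
    le_centralizer_of_disjoint (h2.trans (S.Y_norm_rp_B1 p))
      (((rp_le p B1).trans S.B1_le_X).trans hXR)
      (inf_eq_bot_of_pq hr hp hrp (rp_isPGroup r X) (rp_isPGroup p B1))
  have h5' : rp r X ≤ B1 := h5.trans hCB1
  -- (vi) R ≤ A2
  have h6 : rp r X ≤ A2 := S.le_A2 h3 h5' hXR
  -- (vii)
  exact (le_rp h6 (S.A2_le_X.trans hXR) (rp_isPGroup r X)).trans (S.rp_A2_le_rp_Y r)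

end Cfsg.Agent.Lib.Helper73.TWP
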