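import Cfsg.Agent.Lib.Helper45.FPDefs

set_option autoImplicit false

namespace Cfsg.Agent.Lib.Helper73.FP

open Equiv Cfsg.Agent.Lib.Helper45.FP

/-- transport of solvability along a conjugation of the generating pair -/
theorem solv_conj_pair {G : Type*} [Group G] (g a b : G)
    (h : Group.IsSolvable ↥(Subgroup.closure ({g * a * g⁻¹, g * b * g⁻¹} : Set G))) :
    Group.IsSolvable ↥(Subgroup.closure ({a, b} : Set G)) := by
  have hmap : (Subgroup.closure ({a, b} : Set G)).map (MulAut.conj g).toMonoidHom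
      = Subgroup.closure ({g * a * g⁻¹, g * b * g⁻¹} : Set G) := by
    rw [MonoidHom.map_closure, Set.image_pair]
    rfl
  have hinj : Function.Injective ((MulAut.conj g).toMonoidHom : G →* G) :=
    (MulAut.conj g).injective
  let e := Subgroup.equivMapOfInjective (Subgroup.closure ({a, b} : Set G))
    (MulAut.conj g).toMonoidHom hinj
  rw [← hmap] at h
  exact Group.isSolvable_of_isSolvable_injective (f := e.toMonoidHom) e.injective

theorem SYMM {α : Type*} [Fintype α] [DecidableEq α] (p : ℕ) (u w : Perm α) (h : P p w u) :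
    P p u w := by
  obtain ⟨g, hg, h1, h2⟩ := h
  refine ⟨g⁻¹, by rw [map_inv, hg, inv_one], ?_, ?_⟩
  · intro ⟨k, hk⟩
    apply h1
    refine ⟨k, ?_⟩
    rw [← hk]
    have e1 : u * (g⁻¹ * w * g⁻¹⁻¹) = MulAut.conj (u * g⁻¹) (w * (g * u * g⁻¹)) := by
      rw [MulAut.conj_apply]
      group
    rw [e1, MulEquiv.orderOf_eq]
  · intro hs
    apply h2
    have h3 : Group.IsSolvable ↥(Subgroup.closure ({g⁻¹ * w * g⁻¹⁻¹, g⁻¹ * (g * u * g⁻¹) * g⁻¹⁻¹} : Set (Perm α))) := by
      have e2 : g⁻¹ * (g * u * g⁻¹) * g⁻¹⁻¹ = u := by group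
      rw [e2, Set.pair_comm]
      exact hs
    exact solv_conj_pair g⁻¹ w (g * u * g⁻¹) h3

end Cfsg.Agent.Lib.Helper73.FP
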