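import Mathlib
import Cfsg.Agent.Lib.Helper70.SchurTwoC

/-! S2040 piece J2M-FIVE (helper70's project): the prime 5 for the Schur multiplier of `J₂`. -/

set_option autoImplicit false

open scoped commutatorElement

universe u v

namespace Cfsg.Agent.Lib.Helper73.J2MFIVE

open Cfsg.Agent.Lib.Helper70

/-- An abelian subgroup `⟨a, b⟩` with `a ^ 5 = 1` and an element centralising `a` and inverting `b`:
its preimage is abelian (`three_local_abelian` with `5` for `3`). -/
theorem five_local_abelian {Γ : Type u} {P : Type v} [Group Γ] [Group P] {σ : Γ →* P}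
    (hc : σ.ker ≤ Subgroup.center Γ) {a b t : P} (har : a ∈ σ.range)
    (hbr : b ∈ σ.range) (htr : t ∈ σ.range) (ha5 : a ^ 5 = 1) (hab : a * b = b * a)
    (hta : t * a * t⁻¹ = a) (htb : t * b * t⁻¹ = b⁻¹) :
    ∀ x ∈ ⁅(Subgroup.closure ({a, b} : Set P)).comap σ, (Subgroup.closure ({a, b} : Set P)).comap σ⁆,
      x = 1 := by
  obtain ⟨α, hα⟩ := MonoidHom.mem_range.mp har
  obtain ⟨β, hβ⟩ := MonoidHom.mem_range.mp hbr
  obtain ⟨τ, hτ⟩ := MonoidHom.mem_range.mp htr
  have hκ : ⁅β, α⁆ ∈ σ.ker := by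
    rw [MonoidHom.mem_ker, map_commutatorElement, hα, hβ, commutatorElement_eq_one_iff_mul_comm]
    exact hab.symm
  have hκc := hc hκ
  have hα5 : α ^ 5 ∈ Subgroup.center Γ := hc (by
    rw [MonoidHom.mem_ker, map_pow, hα, ha5])
  have h5 : ⁅β, α⁆ ^ 5 = 1 :=
    central_commutator_pow_eq_one β α hκc 5 (Subgroup.mem_center_iff.mp hα5 β)
  have h2 : ⁅β, α⁆ = ⁅β, α⁆⁻¹ := by
    have e1 : ⁅τ * β * τ⁻¹, τ * α * τ⁻¹⁆ = ⁅β, α⁆ := comm_conj_of_central hκc
    have e2 : ⁅τ * β * τ⁻¹, τ * α * τ⁻¹⁆ = ⁅β⁻¹, α⁆ :=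
      comm_congr_of_ker_central σ hc
        (by rw [map_mul, map_mul, map_inv, map_inv, hτ, hβ, htb])
        (by rw [map_mul, map_mul, map_inv, hτ, hα, hta])
    have e3 : ⁅β⁻¹, α⁆ = ⁅β, α⁆⁻¹ := by
      have : ⁅β⁻¹, α⁆ = β⁻¹ * ⁅β, α⁆⁻¹ * β := by
        simp only [commutatorElement_def]; group
      rw [this]
      have h5 := central_conj (Subgroup.inv_mem _ hκc) β⁻¹
      rwa [inv_inv] at h5
    exact e1.symm.trans (e2.trans e3)
  have h1 : ⁅β, α⁆ = 1 := by
    have hsq : ⁅β, α⁆ ^ 2 = 1 := by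
      rw [pow_two]
      nth_rewrite 2 [h2]
      exact mul_inv_cancel _
    have : ⁅β, α⁆ ^ 5 = (⁅β, α⁆ ^ 2) ^ 2 * ⁅β, α⁆ := by
      rw [← pow_mul, ← pow_succ]
    rw [h5, hsq, one_pow, one_mul] at this
    exact this.symm
  have hcomm : β * α = α * β := commutatorElement_eq_one_iff_mul_comm.mp h1
  have hgen : ∀ x ∈ (({α, β} : Set Γ) ∪ (σ.ker : Set Γ)), ∀ y ∈ (({α, β} : Set Γ) ∪ (σ.ker : Set Γ)),
      x * y = y * x := by
    rintro x (hx | hx) y (hy | hy)
    · rcases hx with rfl | rfl <;> rcases hy with rfl | rfl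
      · rfl
      · exact hcomm.symm
      · exact hcomm
      · rfl
    · exact Subgroup.mem_center_iff.mp (hc hy) x
    · exact (Subgroup.mem_center_iff.mp (hc hx) y).symm
    · exact Subgroup.mem_center_iff.mp (hc hy) x
  have hcl : ∀ x ∈ Subgroup.closure (({α, β} : Set Γ) ∪ (σ.ker : Set Γ)),
      ∀ y ∈ Subgroup.closure (({α, β} : Set Γ) ∪ (σ.ker : Set Γ)), x * y = y * x := by
    intro x hx y hy
    have h1 : Subgroup.closure (({α, β} : Set Γ) ∪ (σ.ker : Set Γ)) ≤
        Subgroup.centralizer (({α, β} : Set Γ) ∪ (σ.ker : Set Γ)) := by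
      rw [Subgroup.closure_le]
      intro z hz
      rw [SetLike.mem_coe, Subgroup.mem_centralizer_iff]
      intro w hw
      exact hgen w hw z hz
    have hyc : y ∈ Subgroup.centralizer
        (Subgroup.closure (({α, β} : Set Γ) ∪ (σ.ker : Set Γ)) : Set Γ) := by
      rw [Subgroup.centralizer_closure]
      exact h1 hy
    rw [Subgroup.mem_centralizer_iff] at hyc
    exact hyc x hx
  have hbot : ⁅(Subgroup.closure ({a, b} : Set P)).comap σ,
      (Subgroup.closure ({a, b} : Set P)).comap σ⁆ = ⊥ := by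
    rw [Subgroup.commutator_eq_bot_iff_le_centralizer]
    intro x hx
    rw [Subgroup.mem_centralizer_iff]
    intro y hy
    exact hcl y (comap_closure_pair_le hα hβ hy) x (comap_closure_pair_le hα hβ hx)
  intro x hx
  rw [hbot] at hx
  exact Subgroup.mem_bot.mp hx

/-- The subgroup generated by two commuting elements of order 5, the second not a power of the
first, has order 25. -/
theorem five_card_closure {G : Type v} [Group G] [Finite G] (a b : G) (ha5 : a ^ 5 = 1)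
    (hb5 : b ^ 5 = 1) (ha1 : a ≠ 1) (hb1 : b ≠ 1) (hab : a * b = b * a)
    (hb : b ∉ Subgroup.zpowers a) :
    Nat.card ↥(Subgroup.closure ({a, b} : Set G)) = 25 := by
  haveI : Fact (Nat.Prime 5) := ⟨by norm_num⟩
  have hoa : orderOf a = 5 := orderOf_eq_prime ha5 ha1
  have hob : orderOf b = 5 := orderOf_eq_prime hb5 hb1
  have hcomm : ∀ (m : ↥(Subgroup.zpowers a)) (n : ↥(Subgroup.zpowers b)),
      Commute ((Subgroup.zpowers a).subtype m) ((Subgroup.zpowers b).subtype n) := by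
    rintro ⟨m, hm⟩ ⟨n, hn⟩
    obtain ⟨i, rfl⟩ := Subgroup.mem_zpowers_iff.1 hm
    obtain ⟨j, rfl⟩ := Subgroup.mem_zpowers_iff.1 hn
    exact Commute.zpow_zpow hab i j
  let f : ↥(Subgroup.zpowers a) × ↥(Subgroup.zpowers b) →* G :=
    MonoidHom.noncommCoprod (Subgroup.zpowers a).subtype (Subgroup.zpowers b).subtype hcomm
  have hle : Subgroup.closure ({a, b} : Set G) ≤ f.range := by
    rw [Subgroup.closure_le]
    rintro x (rfl | rfl)
    · refine ⟨(⟨x, Subgroup.mem_zpowers x⟩, 1), ?_⟩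
      show (Subgroup.zpowers x).subtype ⟨x, _⟩ * (Subgroup.zpowers b).subtype 1 = x
      rw [map_one, mul_one]; rfl
    · refine ⟨(1, ⟨x, Subgroup.mem_zpowers x⟩), ?_⟩
      show (Subgroup.zpowers a).subtype 1 * (Subgroup.zpowers x).subtype ⟨x, _⟩ = x
      rw [map_one, one_mul]; rfl
  have hdom : Nat.card (↥(Subgroup.zpowers a) × ↥(Subgroup.zpowers b)) = 5 ^ 2 := by
    rw [Nat.card_prod, Nat.card_zpowers, Nat.card_zpowers, hoa, hob]; norm_num
  have hdvd : Nat.card ↥(Subgroup.closure ({a, b} : Set G)) ∣ 5 ^ 2 := by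
    rw [← hdom]
    exact (Subgroup.card_dvd_of_le hle).trans (Subgroup.card_range_dvd f)
  obtain ⟨k, hk, hcard⟩ := (Nat.dvd_prime_pow Nat.prime_five).1 hdvd
  have hza : Subgroup.zpowers a ≤ Subgroup.closure ({a, b} : Set G) := by
    rw [Subgroup.zpowers_le]
    exact Subgroup.subset_closure (Set.mem_insert _ _)
  have h5le : 5 ∣ Nat.card ↥(Subgroup.closure ({a, b} : Set G)) := by
    have := Subgroup.card_dvd_of_le hza
    rwa [Nat.card_zpowers, hoa] at this
  have hk0 : k ≠ 0 := by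
    rintro rfl
    rw [hcard] at h5le
    norm_num at h5le
  have hk1 : k ≠ 1 := by
    rintro rfl
    have heq : Subgroup.zpowers a = Subgroup.closure ({a, b} : Set G) := by
      apply Subgroup.eq_of_le_of_card_ge hza
      rw [Nat.card_zpowers, hoa, hcard]
      norm_num
    apply hb
    rw [heq]
    exact Subgroup.subset_closure (Set.mem_insert_of_mem _ rfl)
  have hk2 : k = 2 := by omega
  rw [hcard, hk2]
  norm_num

/-- FIVE : the prime 5 (abelian Sylow subgroup of order 25). -/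
theorem five_local {Γ : Type u} {G : Type v} [Group Γ] [Group G] [Finite G] (σ : Γ →* G)
    (hσ : Function.Surjective σ) (hc : σ.ker ≤ Subgroup.center Γ) (h125 : ¬ 125 ∣ Nat.card G)
    (a b t : G) (ha5 : a ^ 5 = 1) (hb5 : b ^ 5 = 1) (ha1 : a ≠ 1) (hb1 : b ≠ 1)
    (hab : a * b = b * a) (hta : t * a * t⁻¹ = a) (htb : t * b * t⁻¹ = b⁻¹) :
    ∃ U : Subgroup G, ¬ 5 ∣ U.index ∧ ∀ y ∈ ⁅U.comap σ, U.comap σ⁆, y ∈ σ.ker → y = 1 := by
  refine ⟨Subgroup.closure ({a, b} : Set G), ?_, ?_⟩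
  · have hb : b ∉ Subgroup.zpowers a := by
      intro hmem
      obtain ⟨i, rfl⟩ := Subgroup.mem_zpowers_iff.1 hmem
      have h1 : t * a ^ i * t⁻¹ = a ^ i := by
        rw [← conj_zpow, hta]
      rw [h1] at htb
      -- `a ^ i` is its own inverse
      have hsq : (a ^ i) ^ 2 = 1 := by
        rw [pow_two]
        nth_rewrite 2 [htb]
        exact mul_inv_cancel _
      have h5 : (a ^ i) ^ 5 = ((a ^ i) ^ 2) ^ 2 * a ^ i := by
        rw [← pow_mul, ← pow_succ]
      rw [hb5, hsq, one_pow, one_mul] at h5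
      exact hb1 h5.symm
    have hcard := five_card_closure a b ha5 hb5 ha1 hb1 hab hb
    intro hdvd
    apply h125
    rw [← Subgroup.card_mul_index (Subgroup.closure ({a, b} : Set G)), hcard]
    obtain ⟨m, hm⟩ := hdvd
    exact ⟨m, by rw [hm]; ring⟩
  · intro y hy _
    exact five_local_abelian hc (MonoidHom.mem_range.mpr (hσ a)) (MonoidHom.mem_range.mpr (hσ b))
      (MonoidHom.mem_range.mpr (hσ t)) ha5 hab hta htb y hy

end Cfsg.Agent.Lib.Helper73.J2MFIVE
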