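import Mathlib

set_option autoImplicit false

namespace Cfsg.Agent.Lib.Helper73

/-- orbit-stabilizer in a flexible form -/
theorem card_range_mul_card_fiber {D : Type*} [Group D] {X : Type*} (ψ : D → X) (C : Subgroup D)
    (h : ∀ x y, ψ x = ψ y ↔ x⁻¹ * y ∈ C) : Nat.card (Set.range ψ) * Nat.card C = Nat.card D := by
  let f : D ⧸ C → Set.range ψ :=
    Quotient.lift (fun x => (⟨ψ x, x, rfl⟩ : Set.range ψ)) (fun a b hab => by
      have : a⁻¹ * b ∈ C := QuotientGroup.leftRel_apply.mp hab
      exact Subtype.ext ((h a b).mpr this))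
  have hf : Function.Bijective f := by
    constructor
    · intro q q'
      induction q using QuotientGroup.induction_on with
      | H a =>
        induction q' using QuotientGroup.induction_on with
        | H b =>
          intro hq
          have : ψ a = ψ b := congrArg Subtype.val hq
          exact QuotientGroup.eq.mpr ((h a b).mp this)
    · rintro ⟨_, x, rfl⟩
      exact ⟨(x : D ⧸ C), rfl⟩
  rw [← Nat.card_congr (Equiv.ofBijective f hf)]
  exact (Subgroup.card_eq_card_quotient_mul_card_subgroup C).symm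

/-- size of a conjugacy class -/
theorem card_conj_mul_card_centralizer {G : Type*} [Group G] (g : G) :
    Nat.card {y : G // ∃ x : G, x * g * x⁻¹ = y} * Nat.card (Subgroup.centralizer ({g} : Set G)) =
      Nat.card G := by
  have h := card_range_mul_card_fiber (fun x : G => x * g * x⁻¹) (Subgroup.centralizer ({g} : Set G))
    (by
      intro x y
      rw [Subgroup.mem_centralizer_iff]
      simp only [Set.mem_singleton_iff, forall_eq]
      constructor
      · intro h
        calc g * (x⁻¹ * y) = x⁻¹ * (x * g * x⁻¹) * y := by group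
          _ = x⁻¹ * (y * g * y⁻¹) * y := by rw [h]
          _ = x⁻¹ * y * g := by group
      · intro h
        calc x * g * x⁻¹ = x * (g * (x⁻¹ * y)) * y⁻¹ := by group
          _ = x * (x⁻¹ * y * g) * y⁻¹ := by rw [h]
          _ = y * g * y⁻¹ := by group)
  exact h

/-- counting the union of conjugates of a set that is "trivial intersection" relative to `H` -/
theorem ti_count {G : Type*} [Group G] (H : Subgroup G) (S : Set G)
    (hinv : ∀ h ∈ H, ∀ s ∈ S, h * s * h⁻¹ ∈ S)
    (hti : ∀ g : G, g ∉ H → ∀ s ∈ S, g * s * g⁻¹ ∉ S) :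
    Nat.card {y : G // ∃ g : G, ∃ s ∈ S, y = g * s * g⁻¹} * Nat.card H = Nat.card G * Nat.card S := by
  classical
  let U := {y : G // ∃ g : G, ∃ s ∈ S, y = g * s * g⁻¹}
  have hch : ∀ y : U, ∃ p : G × S, (y : G) = p.1 * (p.2 : G) * p.1⁻¹ := by
    rintro ⟨y, g, s, hs, rfl⟩
    exact ⟨(g, ⟨s, hs⟩), rfl⟩
  choose c hc using hch
  let Φ : U × H → G × S := fun p =>
    ((c p.1).1 * (p.2 : G), ⟨(p.2 : G)⁻¹ * ((c p.1).2 : G) * (p.2 : G), by
      have := hinv (p.2 : G)⁻¹ (H.inv_mem p.2.2) _ (c p.1).2.2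
      simpa using this⟩)
  have hΦ : Function.Bijective Φ := by
    constructor
    · rintro ⟨y, h⟩ ⟨y', h'⟩ he
      have h1 : (c y).1 * (h : G) = (c y').1 * (h' : G) := congrArg Prod.fst he
      have h2 : (h : G)⁻¹ * ((c y).2 : G) * (h : G) = (h' : G)⁻¹ * ((c y').2 : G) * (h' : G) :=
        congrArg (fun p : G × S => (p.2 : G)) he
      have hy : (y : G) = y' := by
        calc (y : G) = (c y).1 * ((c y).2 : G) * (c y).1⁻¹ := hc y
          _ = ((c y).1 * (h : G)) * ((h : G)⁻¹ * ((c y).2 : G) * (h : G)) * ((c y).1 * (h : G))⁻¹ := by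
              group
          _ = ((c y').1 * (h' : G)) * ((h' : G)⁻¹ * ((c y').2 : G) * (h' : G)) * ((c y').1 * (h' : G))⁻¹ := by
              rw [h1, h2]
          _ = (c y').1 * ((c y').2 : G) * (c y').1⁻¹ := by group
          _ = y' := (hc y').symm
      have hy' : y = y' := Subtype.ext hy
      subst hy'
      have h3 : (h : G) = h' := mul_left_cancel h1
      have h3' : h = h' := Subtype.ext h3
      rw [h3']
    · rintro ⟨g, s⟩
      have hyU : ∃ g' : G, ∃ s' ∈ S, g * (s : G) * g⁻¹ = g' * s' * g'⁻¹ := ⟨g, s, s.2, rfl⟩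
      let y : U := ⟨g * (s : G) * g⁻¹, hyU⟩
      have hy := hc y
      have hy2 : g * (s : G) * g⁻¹ = (c y).1 * ((c y).2 : G) * (c y).1⁻¹ := hy
      have hmem : (c y).1⁻¹ * g ∈ H := by
        by_contra hn
        have := hti _ hn s s.2
        apply this
        have : (c y).1⁻¹ * g * (s : G) * ((c y).1⁻¹ * g)⁻¹ = ((c y).2 : G) := by
          calc (c y).1⁻¹ * g * (s : G) * ((c y).1⁻¹ * g)⁻¹
              = (c y).1⁻¹ * (g * (s : G) * g⁻¹) * (c y).1 := by group
            _ = (c y).1⁻¹ * ((c y).1 * ((c y).2 : G) * (c y).1⁻¹) * (c y).1 := by rw [hy2]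
            _ = ((c y).2 : G) := by group
        rw [this]
        exact (c y).2.2
      refine ⟨(y, ⟨(c y).1⁻¹ * g, hmem⟩), ?_⟩
      apply Prod.ext
      · show (c y).1 * ((c y).1⁻¹ * g) = g
        group
      · apply Subtype.ext
        show ((c y).1⁻¹ * g)⁻¹ * ((c y).2 : G) * ((c y).1⁻¹ * g) = (s : G)
        calc ((c y).1⁻¹ * g)⁻¹ * ((c y).2 : G) * ((c y).1⁻¹ * g)
            = g⁻¹ * ((c y).1 * ((c y).2 : G) * (c y).1⁻¹) * g := by group
          _ = g⁻¹ * (g * (s : G) * g⁻¹) * g := by rw [hy2]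
          _ = (s : G) := by group
  have := Nat.card_congr (Equiv.ofBijective Φ hΦ)
  rw [Nat.card_prod, Nat.card_prod] at this
  exact this

/-- an element outside a normal subgroup has a prime-power-order power outside it -/
theorem exists_prime_pow_power {G : Type*} [Group G] [Finite G] (N : Subgroup G) [N.Normal] (x : G)
    (hx : x ∉ N) : ∃ (q : ℕ) (a r : ℕ), q.Prime ∧ x ^ r ∉ N ∧ orderOf (x ^ r) = q ^ a ∧
      q ∣ N.index := by
  set d := orderOf (QuotientGroup.mk x : G ⧸ N) with hd
  have hd1 : d ≠ 1 := by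
    intro h
    apply hx
    have : (QuotientGroup.mk x : G ⧸ N) = 1 := orderOf_eq_one_iff.mp h
    exact (QuotientGroup.eq_one_iff x).mp this
  obtain ⟨q, hq, hqd⟩ := Nat.exists_prime_and_dvd hd1
  have hopos : 0 < orderOf x := orderOf_pos x
  obtain ⟨a, r, hqr, hor⟩ := Nat.exists_eq_pow_mul_and_not_dvd hopos.ne' q hq.ne_one
  have hr0 : r ≠ 0 := by
    intro h; rw [h, mul_zero] at hor; exact hopos.ne' hor
  refine ⟨q, a, r, hq, ?_, ?_, ?_⟩
  · intro h
    have h1 : (QuotientGroup.mk x : G ⧸ N) ^ r = 1 := by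
      rw [← QuotientGroup.mk_pow]
      exact (QuotientGroup.eq_one_iff _).mpr h
    have : d ∣ r := orderOf_dvd_of_pow_eq_one h1
    exact hqr (dvd_trans hqd this)
  · rw [orderOf_pow' x hr0, hor]
    have : Nat.gcd (q ^ a * r) r = r := Nat.gcd_eq_right (Dvd.intro_left _ rfl)
    rw [this]
    exact Nat.mul_div_cancel _ (Nat.pos_of_ne_zero hr0)
  · have : d ∣ Nat.card (G ⧸ N) := orderOf_dvd_natCard _
    rw [Subgroup.index_eq_card]
    exact dvd_trans hqd this

end Cfsg.Agent.Lib.Helper73
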