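import Mathlib
import Cfsg.Agent.Lib.Helper4.FCDefs

set_option autoImplicit false

namespace Cfsg.Agent.Lib.Helper4.FC

universe u

theorem fc_a2h : SplitStmt.{u} → KQStmt.{u} → A2HStmt.{u} := by
  intro hSplit hKQ G _ _ n m q K Q h hctx hhQ hex
  obtain ⟨hFour, hq, ⟨i, hmi⟩, hKn, hKq, hKi, hcent, ⟨b, hbQ, hbm⟩⟩ := hctx
  obtain ⟨hn1, hm1, hnm, hcs, _, _, _⟩ := hFour
  obtain ⟨hKQ1, hKQ2, _⟩ := hKQ G q K Q hq hKn hKq hKi
  have hsplit := hSplit G K (Q : Subgroup G) h hKn hKQ1 hKQ2 hhQ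
  obtain ⟨u, huK, hu⟩ := hex
  haveI : Fact q.Prime := ⟨hq⟩
  have hi : i ≠ 0 := by
    intro h0
    rw [h0, pow_zero] at hmi
    omega
  have hnq : n.Coprime q := by
    rw [hmi] at hnm
    exact Nat.Coprime.coprime_dvd_right (dvd_pow_self q hi) hnm
  -- alpha
  have hα1 : (Cen h).relIndex K ≠ 1 := by
    intro h1
    rw [Subgroup.relIndex_eq_one] at h1
    have := h1 huK
    rw [Subgroup.mem_centralizer_iff] at this
    exact hu (this h rfl)
  have hαd : (Cen h).relIndex K ∣ Nat.card K := Subgroup.relIndex_dvd_card _ _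
  have hαq : ((Cen h).relIndex K).Coprime q := Nat.Coprime.coprime_dvd_left hαd hKq
  -- beta
  obtain ⟨k, hk⟩ : ∃ k : ℕ, Nat.card (Q : Subgroup G) = q ^ k := IsPGroup.iff_card.1 Q.2
  have hβd : (Cen h).relIndex (Q : Subgroup G) ∣ q ^ k := by
    rw [← hk]; exact Subgroup.relIndex_dvd_card _ _
  obtain ⟨j, _, hj⟩ := (Nat.dvd_prime_pow hq).1 hβd
  rw [hj] at hsplit
  have hqpos : ∀ t : ℕ, 0 < q ^ t := fun t => Nat.pos_of_ne_zero (pow_ne_zero t hq.ne_zero)
  rcases hcs h with h1 | h1 | h1 | h1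
  · exfalso
    rw [h1] at hsplit
    exact hα1 (Nat.eq_one_of_mul_eq_one_right hsplit.symm)
  · exfalso
    rw [h1] at hsplit
    have hj0 : j = 0 := by
      by_contra hj0
      have hqn : q ∣ n := by
        rw [hsplit]
        exact dvd_mul_of_dvd_right (dvd_pow_self q hj0) _
      have := Nat.eq_one_of_dvd_coprimes hnq hqn (dvd_refl q)
      exact hq.one_lt.ne' this
    rw [hj0, pow_zero, Subgroup.relIndex_eq_one] at hj
    have hbh : b ∈ Cen h := hj hbQ
    rw [Subgroup.mem_centralizer_iff] at hbh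
    have hhb : h ∈ Cen b := by
      rw [Subgroup.mem_centralizer_iff]
      intro y hy
      rw [Set.mem_singleton_iff] at hy
      subst hy
      exact (hbh h rfl).symm
    exact hu (hcent b hbQ hbm h hhQ hhb u huK)
  · exfalso
    rw [h1, hmi] at hsplit
    have hd : (Cen h).relIndex K ∣ q ^ i := ⟨_, hsplit⟩
    have hc : ((Cen h).relIndex K).Coprime (q ^ i) := Nat.Coprime.pow_right i hαq
    exact hα1 (Nat.Coprime.eq_one_of_dvd hc hd)
  · refine ⟨h1, ?_⟩
    rw [h1, hmi] at hsplit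
    have hd : (Cen h).relIndex K ∣ n * q ^ i := ⟨_, hsplit⟩
    have hc : ((Cen h).relIndex K).Coprime (q ^ i) := Nat.Coprime.pow_right i hαq
    have hαn : (Cen h).relIndex K ∣ n := Nat.Coprime.dvd_of_dvd_mul_right hc hd
    have hd2 : q ^ j ∣ n * q ^ i := ⟨(Cen h).relIndex K, by rw [hsplit]; ring⟩
    have hc2 : (q ^ j).Coprime n := Nat.Coprime.pow_left j hnq.symm
    have hβi : q ^ j ∣ q ^ i := Nat.Coprime.dvd_of_dvd_mul_left hc2 hd2
    have hαle : (Cen h).relIndex K ≤ n := Nat.le_of_dvd (by omega) hαn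
    have hβle : q ^ j ≤ q ^ i := Nat.le_of_dvd (hqpos i) hβi
    by_contra hne
    have hlt : (Cen h).relIndex K < n := lt_of_le_of_ne hαle hne
    have : (Cen h).relIndex K * q ^ j < n * q ^ i :=
      calc (Cen h).relIndex K * q ^ j ≤ (Cen h).relIndex K * q ^ i := Nat.mul_le_mul_left _ hβle
        _ < n * q ^ i := Nat.mul_lt_mul_of_pos_right hlt (hqpos i)
    rw [hsplit] at this
    exact lt_irrefl _ this

end Cfsg.Agent.Lib.Helper4.FC
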