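import Mathlib
import Cfsg.Agent.Lib.Helper4.FCDefs

set_option autoImplicit false

namespace Cfsg.Agent.Lib.Helper4.FC

universe u

theorem fc_z2b : Z2BStmt.{u} := by
  intro K _ _ φ hctx
  obtain ⟨_, ⟨u, v, huv⟩, _, hcs⟩ := hctx
  by_contra hcon
  have hall : ∀ w : K, φ w = w → w ∈ Subgroup.center K := by
    intro w hw
    by_contra hwc
    exact hcon ⟨w, hw, hwc⟩
  have hu : u ∉ Subgroup.center K := by
    intro hc
    rw [Subgroup.mem_center_iff] at hc
    exact huv (hc v).symm
  have hFle : FixSub φ ≤ Subgroup.center K := by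
    intro w hw
    exact hall w hw
  have hcle : Subgroup.center K ≤ Cen u := by
    intro z hz
    rw [Subgroup.mem_centralizer_iff]
    intro y hy
    rw [Set.mem_singleton_iff] at hy
    subst hy
    rw [Subgroup.mem_center_iff] at hz
    exact hz y
  have huC : u ∈ Cen u := by
    rw [Subgroup.mem_centralizer_iff]
    intro y hy
    rw [Set.mem_singleton_iff] at hy
    subst hy
    rfl
  have h1 : (Subgroup.center K).relIndex (Cen u) * (Cen u).index = (Subgroup.center K).index :=
    Subgroup.relIndex_mul_index hcle
  have h2 : (Subgroup.center K).relIndex (Cen u) ≠ 1 := by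
    intro h
    rw [Subgroup.relIndex_eq_one] at h
    exact hu (h huC)
  have h3 : (Subgroup.center K).relIndex (Cen u) ≠ 0 := by
    intro h
    rw [h, zero_mul] at h1
    exact Subgroup.index_ne_zero_of_finite h1.symm
  have h4 : (Cen u).index ≠ 0 := Subgroup.index_ne_zero_of_finite
  have h5 : (Subgroup.center K).index ∣ (FixSub φ).index := Subgroup.index_dvd_of_le hFle
  have h6 : (FixSub φ).index ≠ 0 := Subgroup.index_ne_zero_of_finite
  have h7 : (Subgroup.center K).index ≤ (FixSub φ).index := Nat.le_of_dvd (by omega) h5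
  have h8 : cs u = (FixSub φ).index := hcs u hu
  have h9 : 2 * (Cen u).index ≤ (Subgroup.center K).index := by
    rw [← h1]
    exact Nat.mul_le_mul_right _ (by omega)
  have h10 : (Cen u).index = (FixSub φ).index := h8
  omega

end Cfsg.Agent.Lib.Helper4.FC
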