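import Mathlib

/-!
# S2080 piece FINAL (helper73 for helper38): inner automorphisms from a fixed generating set.
-/

set_option autoImplicit false

namespace Cfsg.Agent.Lib.Helper73.OutFinal

section

variable {G : Type} [Group G]

/-- an automorphism which, after an inner correction, fixes a generating set is inner -/
theorem inner_of_fix (α : G ≃* G) (S : Set G) (hS : Subgroup.closure S = ⊤)
    (h : ∃ u : G, ∀ p ∈ S, u * α p * u⁻¹ = p) : ∃ v : G, ∀ x : G, α x = v * x * v⁻¹ := by
  obtain ⟨u, hu⟩ := h
  refine ⟨u⁻¹, fun x => ?_⟩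
  have hx : x ∈ Subgroup.closure S := by rw [hS]; trivial
  have key : u * α x * u⁻¹ = x := by
    induction hx using Subgroup.closure_induction with
    | mem y hy => exact hu y hy
    | one => simp
    | mul a b _ _ iha ihb =>
      rw [map_mul]
      calc u * (α a * α b) * u⁻¹ = (u * α a * u⁻¹) * (u * α b * u⁻¹) := by group
        _ = a * b := by rw [iha, ihb]
    | inv a _ iha =>
      rw [map_inv]
      calc u * (α a)⁻¹ * u⁻¹ = (u * α a * u⁻¹)⁻¹ := by group
        _ = a⁻¹ := by rw [iha]
  have h2 : α x = u⁻¹ * (u * α x * u⁻¹) * u⁻¹⁻¹ := by group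
  rw [h2, key]

/-- if every automorphism is inner, the outer automorphism group is trivial -/
theorem card_out_eq_one (h : ∀ α : MulAut G, ∃ v : G, ∀ x : G, α x = v * x * v⁻¹) :
    Nat.card (MulAut G ⧸ (MulAut.conj : G →* MulAut G).range) = 1 := by
  have htop : (MulAut.conj : G →* MulAut G).range = ⊤ := by
    rw [eq_top_iff]
    intro α _
    obtain ⟨v, hv⟩ := h α
    refine ⟨v, ?_⟩
    ext x
    rw [hv x]; simp [MulAut.conj_apply]
  rw [← Subgroup.index_eq_card, htop, Subgroup.index_top]

end

end Cfsg.Agent.Lib.Helper73.OutFinal
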